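import Groth.Agent.Lib.ParBun.Exact
import Groth.Agent.Lib.Snapper.Finite
import Groth.Agent.Lib.Snapper.DimBound
import Groth.Agent.Lib.CurveBundle.Twist
import Groth.Agent.Lib.TensorMod.Invertible
import Groth.Prelude.Def_ShStab

/-!
# Twisted Euler characteristics on proper schemes and parabolic Hilbert functions
-/

set_option autoImplicit false
universe u

open CategoryTheory Limits AlgebraicGeometry

namespace Groth.Agent.Lib.ParBun.Proper

open Groth.Agent.Lib

variable {k : Type u} [Field k] {X : Scheme.{u}} [X.Over (Spec (CommRingCat.of k))]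
  [IsProper (X ↘ Spec (CommRingCat.of k))]

/-- Euler characteristics of coherent sheaves are additive. -/
theorem euler_add {S : ShortComplex X.Modules} (hS : S.ShortExact) (h₁ : Coh.IsCoh S.X₁)
    (h₂ : Coh.IsCoh S.X₂) (h₃ : Coh.IsCoh S.X₃) :
    Curv2.euler k X S.X₂ = Curv2.euler k X S.X₁ + Curv2.euler k X S.X₃ := by
  have := Curves.GlobalSections.noetherianSpace_of_proper k X
  obtain ⟨d, hd⟩ := Snapper.DimBound.exists_dim_bound k X
  rw [Snapper.Chi.euler_eq_eulerCharLE hd, Snapper.Chi.euler_eq_eulerCharLE hd,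
    Snapper.Chi.euler_eq_eulerCharLE hd]
  exact Snapper.Chi.eulerCharLE_add (Snapper.Finite.cohFinite k X) hd hS h₁ h₂ h₃

/-- Twisted Euler characteristics are additive. -/
theorem twist_add {L : X.Modules} (hL : PicF.IsInvertible L) {S : ShortComplex X.Modules}
    (hS : S.ShortExact) (h₁ : Coh.IsCoh S.X₁) (h₂ : Coh.IsCoh S.X₂) (h₃ : Coh.IsCoh S.X₃) (m : ℕ) :
    Curv2.euler k X (ShStab.twist X L S.X₂ m) =
      Curv2.euler k X (ShStab.twist X L S.X₁ m) + Curv2.euler k X (ShStab.twist X L S.X₃ m) := by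
  have hLm := TensorMod.Invertible.isInvertible_tensorPow hL m
  exact euler_add (S := ShortComplex.mk (TensorMod.Basic.tmap S.f (𝟙 (CohB1.tensorPow L m)))
    (TensorMod.Basic.tmap S.g (𝟙 (CohB1.tensorPow L m))) _) (CurveBundle.Twist.shortExact hLm hS)
    (CurveBundle.Twist.isCoh hLm h₁) (CurveBundle.Twist.isCoh hLm h₂)
    (CurveBundle.Twist.isCoh hLm h₃)

/-- The parabolic Hilbert function is additive on parabolic extensions. -/
theorem parHilb_add {L : X.Modules} (hL : PicF.IsInvertible L) {F E G : X.Modules} (i : F ⟶ E)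
    (p : E ⟶ G) [Epi p] (w : i ≫ p = 0) (hS : (ShortComplex.mk i p w).ShortExact) (hG : Coh.IsCoh G)
    (𝓔 : ParSh.Str E) (hcoh : ∀ j, Coh.IsCoh ((𝓔.pieceX j : Subobject E) : X.Modules)) (m : ℕ) :
    (𝓔.induced i).parHilb k X L m + (𝓔.coinduced p).parHilb k X L m = 𝓔.parHilb k X L m := by
  refine Exact.parSum_add 𝓔 i p w hS _ fun j => ?_
  obtain ⟨i', p', w', -, -, hT⟩ := Exact.piece_shortExact hS (𝓔.pieceX j)
  dsimp only at i' p' hT
  have := LocallyOfFiniteType.isLocallyNoetherian (X ↘ Spec (CommRingCat.of k))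
  have := (hcoh j).1
  have := hG.1
  have hI : Coh.IsCoh ((imageSubobject ((𝓔.pieceX j).arrow ≫ p) : Subobject G) : X.Modules) :=
    CohBasics.Closure.isCoh_of_iso
      (Abelian.imageIsoImage _ ≪≫ (imageSubobjectIso _).symm)
      (CohBasics.Closure.isCoh_image ((𝓔.pieceX j).arrow ≫ p) (hcoh j).1 hG)
  have := hT.epi_g
  have hK : Coh.IsCoh (((Subobject.pullback i).obj (𝓔.pieceX j) : Subobject F) : X.Modules) :=
    CohBasics.Closure.isCoh_of_iso
      ((kernelIsKernel p').conePointUniqueUpToIso hT.fIsKernel)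
      (CohBasics.Closure.isCoh_kernel p' (hcoh j) hI.1)
  exact_mod_cast twist_add hL hT hK (hcoh j) hI m

end Groth.Agent.Lib.ParBun.Proper
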