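import Groth.Agent.Lib.ParBun.Exact
import Groth.Agent.Lib.CurveBundle.ResD
import Groth.Prelude.Def_SecTwist

/-!
# Parabolic bundles on curves

Pieces between `E(-D)` and `E` have finite cohomology whether coherent or not; the parabolic degree is
additive on subbundles with induced and quotient structures and grows from the image of a parabolic
morphism to its saturation.
-/

set_option autoImplicit false
universe u

open CategoryTheory Limits AlgebraicGeometry MonoidalCategory TopologicalSpace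

namespace Groth.Agent.Lib.ParBun.Curve

open Groth.Agent.Lib CurveBundle.Degree CurveBundle.Slope TensorMod.Basic

variable {X : Scheme.{u}}

lemma unitorR_natural {M N : X.Modules} (f : M ⟶ N) :
    tmap f (𝟙 _) ≫ (SecTwist.unitorR N).hom = (SecTwist.unitorR M).hom ≫ f := by
  have h : ((fgt X).map f ⊗ₘ (fgt X).map (𝟙 (Coh.structureModule X))) ≫
      (ρ_ ((fgt X).obj N)).hom = (ρ_ ((fgt X).obj M)).hom ≫ (fgt X).map f := by
    rw [CategoryTheory.Functor.map_id, MonoidalCategory.tensorHom_id]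
    exact rightUnitor_naturality _
  have h2 := congrArg (sh X).map h
  erw [Functor.map_comp, Functor.map_comp] at h2
  change (sh X).map _ ≫ (sh X).map (ρ_ ((fgt X).obj N)).hom ≫ (adj X).counit.app N =
    ((sh X).map (ρ_ ((fgt X).obj M)).hom ≫ (adj X).counit.app M) ≫ f
  refine ((Category.assoc _ _ _).symm.trans (congrArg (· ≫ (adj X).counit.app N) h2)).trans ?_
  refine (Category.assoc _ _ _).trans ?_
  refine Eq.trans ?_ (Category.assoc _ _ _).symm
  exact congrArg ((sh X).map (ρ_ ((fgt X).obj M)).hom ≫ ·) ((adj X).counit.naturality f)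

/-- Precomposing with an epimorphism does not change the image. -/
lemma imageSubobject_epi {A B D : X.Modules} (e : A ⟶ B) [Epi e] (h : B ⟶ D) :
    imageSubobject (e ≫ h) = imageSubobject h := by
  refine le_antisymm (imageSubobject_comp_le _ _) ?_
  let c := Subobject.ofLE _ _ (imageSubobject_comp_le e h)
  have hc : factorThruImageSubobject (e ≫ h) ≫ c = e ≫ factorThruImageSubobject h := by
    rw [← cancel_mono (imageSubobject h).arrow]
    simp [c]
  have : Epi (factorThruImageSubobject (e ≫ h) ≫ c) := by rw [hc]; exact epi_comp _ _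
  have : Epi c := epi_of_epi (factorThruImageSubobject (e ≫ h)) c
  have : IsIso c := isIso_of_mono_of_epi c
  exact Subobject.le_of_comm (inv c) (by simp [c])

/-- `I · E` maps onto `I · G` along a quotient `E → G`. -/
lemma image_twist (I : X.IdealSheafData) {E G : X.Modules} (q : E ⟶ G) [Epi q] :
    imageSubobject ((ParSh.twistSub I E).arrow ≫ q) = ParSh.twistSub I G := by
  have : Epi (tmap q (𝟙 (ClSub.idealMod I))) :=
    inferInstanceAs (Epi ((tensorBy (ClSub.idealMod I)).map q))
  have hn : ParSh.twistMap I E ≫ q = tmap q (𝟙 _) ≫ ParSh.twistMap I G := by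
    simp only [ParSh.twistMap, CurveBundle.ResD.tensorMap_eq]
    rw [Category.assoc, ← unitorR_natural, ← tmap_comp_assoc, ← tmap_comp_assoc]
    simp
  show imageSubobject ((imageSubobject (ParSh.twistMap I E)).arrow ≫ q) = _
  rw [← imageSubobject_epi (factorThruImageSubobject (ParSh.twistMap I E)), imageSubobject_arrow_comp_assoc,
    hn, imageSubobject_epi]
  rfl

variable {k : Type u} [Field k] [X.Over (Spec (CommRingCat.of k))] [hC : CurveCtx k X]

/-- `χ` on real numbers. -/
noncomputable abbrev chi (k : Type u) [Field k] [X.Over (Spec (CommRingCat.of k))] (M : X.Modules) : ℝ :=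
  (Curv2.euler k X M : ℝ)

include hC

lemma euler_eq (M : X.Modules) :
    Curv2.euler k X M = dg k M + (gr k M : ℤ) * Curv2.euler k X (Coh.structureModule X) := by
  unfold dg gr
  ring

/-- Torsion sheaves with finitely many sections have finite cohomology. -/
lemma good_torsion {Q : X.Modules}
    (h : letI := hC.integral; Subsingleton (Q.presheaf.stalk (genericPoint X)))
    (hf : FiniteDimensional k (Coh.HH X Q 0)) : Curves.Euler.IsGood k X Q := by
  have := hC.noethSpace
  have h1 := fun n => (isTorsion k h).subsingleton_HH_succ hC.dim_le n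
  exact ⟨hf, haveI := h1 0; Module.Finite.of_finite, fun i hi => by
    obtain ⟨n, rfl⟩ : ∃ n, i = n + 1 := ⟨i - 1, by omega⟩
    exact h1 n⟩

/-- Modules between two coherent ones of the same rank. -/
lemma mid {A M B : X.Modules} (a : A ⟶ M) (b : M ⟶ B) [Mono a] [Mono b] (hA : Coh.IsCoh A)
    (hB : Coh.IsCoh B) (hg : gr k A = gr k B) :
    Curves.Euler.IsGood k X M ∧ FiniteDimensional k (Coh.HH X (cokernel a) 0) ∧
      Curv2.euler k X M = Curv2.euler k X A + Curves.Euler.hdim k X (cokernel a) 0 := by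
  let _ := hC.integral
  have := hC.noethSpace
  obtain ⟨hQ, hgQ, -⟩ := cokernel_ses k (a ≫ b) hA hB
  let c : cokernel a ⟶ cokernel (a ≫ b) := cokernel.desc a (b ≫ cokernel.π (a ≫ b)) (by
    rw [← Category.assoc, cokernel.condition])
  have hc : cokernel.π a ≫ c = b ≫ cokernel.π (a ≫ b) := cokernel.π_desc _ _ _
  have : Mono c := by
    refine Preadditive.mono_of_kernel_zero ?_
    let s := Abelian.monoLift (a ≫ b) (pullback.fst (cokernel.π a) (kernel.ι c) ≫ b) (by
      rw [Category.assoc, ← hc, pullback.condition_assoc, kernel.condition, comp_zero])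
    have hs : s ≫ a = pullback.fst (cokernel.π a) (kernel.ι c) := by
      rw [← cancel_mono b, Category.assoc]
      exact Abelian.monoLift_comp _ _ _
    rw [← cancel_epi (pullback.snd (cokernel.π a) (kernel.ι c)), ← pullback.condition, ← hs,
      Category.assoc, cokernel.condition, comp_zero, comp_zero]
  have hst : Subsingleton ((cokernel (a ≫ b)).presheaf.stalk (genericPoint X)) :=
    CurveBundle.Rank.subsingleton_of_grank_eq_zero hQ (show gr k (cokernel (a ≫ b)) = 0 by omega)
  have hst' : Subsingleton ((cokernel a).presheaf.stalk (genericPoint X)) :=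
    ((Modules.StalkModule.mono_iff_stalkMapₗ_injective c).mp ‹_› (genericPoint X)).subsingleton
  have := (hC.good _ hQ).fin₀
  have hfin : FiniteDimensional k (Coh.HH X (cokernel a) 0) :=
    Module.Finite.of_injective _ (Curves.LES.mapK_injective_of_mono k c)
  have hQg := good_torsion hst' hfin
  have hS : (ShortComplex.mk a (cokernel.π a) (cokernel.condition a)).ShortExact :=
    { exact := ShortComplex.exact_cokernel a }
  have hM := Curves.Euler.IsGood.middle hS (hC.good _ hA) hQg
  refine ⟨hM, hfin, ?_⟩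
  have e := Curves.Euler.euler_add hS (hC.good _ hA) hM hQg
  dsimp only at e
  rw [e, (isTorsion k hst').euler hC.dim_le]

/-- `χ` grows along inclusions between them. -/
lemma mid_le {A M M' B : X.Modules} (a : A ⟶ M) (m : M ⟶ M') (b : M' ⟶ B) [Mono a] [Mono m] [Mono b]
    (hA : Coh.IsCoh A) (hB : Coh.IsCoh B) (hg : gr k A = gr k B) :
    Curv2.euler k X M ≤ Curv2.euler k X M' := by
  obtain ⟨-, -, e₁⟩ := mid (k := k) a (m ≫ b) hA hB hg
  obtain ⟨-, hfin, e₂⟩ := mid (k := k) (a ≫ m) b hA hB hg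
  let c : cokernel a ⟶ cokernel (a ≫ m) := cokernel.desc a (m ≫ cokernel.π (a ≫ m)) (by
    rw [← Category.assoc, cokernel.condition])
  have hc : cokernel.π a ≫ c = m ≫ cokernel.π (a ≫ m) := cokernel.π_desc _ _ _
  have : Mono c := by
    refine Preadditive.mono_of_kernel_zero ?_
    let s := Abelian.monoLift (a ≫ m) (pullback.fst (cokernel.π a) (kernel.ι c) ≫ m) (by
      rw [Category.assoc, ← hc, pullback.condition_assoc, kernel.condition, comp_zero])
    have hs : s ≫ a = pullback.fst (cokernel.π a) (kernel.ι c) := by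
      rw [← cancel_mono m, Category.assoc]
      exact Abelian.monoLift_comp _ _ _
    rw [← cancel_epi (pullback.snd (cokernel.π a) (kernel.ι c)), ← pullback.condition, ← hs,
      Category.assoc, cokernel.condition, comp_zero, comp_zero]
  have h := Curves.Euler.hdim_zero_le_of_mono (k := k) c
  rw [e₁, e₂]
  linarith [(Nat.cast_le (α := ℤ)).mpr h]

variable {I : X.IdealSheafData} (hI : FGA.IsEffCartier I)

/-- What we use of a bottom: coherent, of full rank, and `χ` lowered by rank times degree. -/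
def IsBot (k : Type u) [Field k] [X.Over (Spec (CommRingCat.of k))] [CurveCtx k X]
    (I : X.IdealSheafData) (B : X.Modules) (A : X.Modules) : Prop :=
  Coh.IsCoh A ∧ gr k A = gr k B ∧
    Curv2.euler k X A = Curv2.euler k X B + (gr k B : ℤ) * dg k (ClSub.idealMod I)

include hI

/-- `I · E` for a bundle. -/
lemma twist_facts {E : X.Modules} {r : ℕ} (hE : FlatMod.IsFinLocFreeOfRank r E) :
    IsBot k I E ((ParSh.twistSub I E : Subobject E) : X.Modules) := by
  let _ := hC.integral
  obtain ⟨hEc, -, er, -⟩ := bundle (k := k) hE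
  have hJ := CurveBundle.ResD.isInvertible_ideal k hI
  obtain ⟨hex, hepi⟩ := CurveBundle.ResD.exact_tensor E (ClSub.Quot.idealSeq_shortExact I)
  let u := tmap (𝟙 E) (ClSub.idealModι I)
  let v := tmap (𝟙 E) (ClSub.toSubscheme I)
  have huv : u ≫ v = 0 := CurveBundle.ResD.zw hex
  have hcoh1 := CurveBundle.Twist.isCoh hJ hEc
  have hcoh2 : Coh.IsCoh (CohB1.tensorMod E (Coh.structureModule X)) :=
    CohBasics.Closure.isCoh_of_iso (rightUnit E).symm hEc
  obtain ⟨J, p, j, hp, hj, hpj, hJc, hK, hg, -⟩ := exists_image k u hcoh1 hcoh2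
  obtain ⟨-, hgj, -⟩ := cokernel_ses k j hJc hcoh2
  have : Epi v := hepi
  have e : cokernel j ≅ ParSh.resD I E :=
    (cokernelIsoOfEq hpj.symm ≪≫ cokernelEpiComp p j).symm ≪≫
      IsColimit.coconePointUniqueUpToIso (cokernelIsCokernel u)
        (ShortComplex.Exact.gIsCokernel (S := ShortComplex.mk u v huv) hex)
  rw [gr_congr k e, (CurveBundle.ResD.res_facts k hI hEc).2, gr_congr k (rightUnit E)] at hgj
  obtain ⟨eg, ed⟩ := CurveBundle.Twist.gr_dg_twist k hJ hEc
  have hET : TorSh.IsTorsionFree (CohB1.tensorMod E (ClSub.idealMod I)) :=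
    CurveBundle.Coherent.isTorsionFree (TensorMod.LocFree.isFinLocFree_tensorMod
      (TensorMod.LocFree.of_rank hE)
      (TensorMod.LocFree.of_rank (TensorMod.LocFree.of_isInvertible hJ)))
  have hKz := sub_zero_rank (k := k) (kernel.ι u) hK hET (by omega)
  have : Mono u := Preadditive.mono_of_kernel_zero (hKz.1.eq_of_src _ _)
  have : Mono (ParSh.twistMap I E) := by
    rw [ParSh.twistMap, CurveBundle.ResD.tensorMap_eq]
    exact mono_comp _ _
  have : Mono (factorThruImageSubobject (ParSh.twistMap I E)) :=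
    mono_of_mono_fac (imageSubobject_arrow_comp (ParSh.twistMap I E))
  have : IsIso (factorThruImageSubobject (ParSh.twistMap I E)) := isIso_of_mono_of_epi _
  let i : ((ParSh.twistSub I E : Subobject E) : X.Modules) ≅ CohB1.tensorMod E (ClSub.idealMod I) :=
    (asIso (factorThruImageSubobject (ParSh.twistMap I E))).symm
  refine ⟨CohBasics.Closure.isCoh_of_iso i.symm hcoh1, (gr_congr k i).trans eg, ?_⟩
  rw [Curves.Euler.euler_eq_of_iso i, euler_eq (k := k) (CohB1.tensorMod E (ClSub.idealMod I)),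
    euler_eq (k := k) E, eg, ed]
  ring

/-- The bottom cut out on a subbundle. -/
lemma pullback_twist {F E G : X.Modules} (i : F ⟶ E) (p : E ⟶ G) [Epi p] (w : i ≫ p = 0)
    (hS : (ShortComplex.mk i p w).ShortExact) {r s t : ℕ} (hE : FlatMod.IsFinLocFreeOfRank r E)
    (hF : FlatMod.IsFinLocFreeOfRank s F) (hG : FlatMod.IsFinLocFreeOfRank t G) :
    IsBot k I F (((Subobject.pullback i).obj (ParSh.twistSub I E) : Subobject F) : X.Modules) := by
  obtain ⟨i', p', w', -, -, hT⟩ := Exact.piece_shortExact hS (ParSh.twistSub I E)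
  dsimp only at i' p' hT
  obtain ⟨hcE, hgE, hχE⟩ := twist_facts (k := k) hI hE
  obtain ⟨hcG, hgG, hχG⟩ := twist_facts (k := k) hI hG
  have himg := image_twist I p
  have hcG' : Coh.IsCoh ((imageSubobject ((ParSh.twistSub I E).arrow ≫ p) : Subobject G) : X.Modules) :=
    himg ▸ hcG
  have := hT.epi_g
  obtain ⟨hK, -, -⟩ := kernel_ses k p' hcE hcG'
  have hc : Coh.IsCoh (((Subobject.pullback i).obj (ParSh.twistSub I E) : Subobject F) : X.Modules) :=
    CohBasics.Closure.isCoh_of_iso
      ((kernelIsKernel p').conePointUniqueUpToIso hT.fIsKernel) hK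
  have e1 := gr_add k hT hcE
  have e2 := euler_add k hT hc hcE hcG'
  dsimp only at e1 e2
  rw [himg] at e1 e2
  have f1 := gr_add k hS (bundle (k := k) hE).1
  have f2 := euler_add k hS (bundle (k := k) hF).1 (bundle (k := k) hE).1 (bundle (k := k) hG).1
  dsimp only at f1 f2
  refine ⟨hc, by omega, ?_⟩
  rw [hχE, hχG] at e2
  have f1' : (gr k E : ℤ) = gr k F + gr k G := by exact_mod_cast f1
  rw [f1', add_mul] at e2
  linarith

omit hI in
/-- The parabolic degree through the weighted sum. -/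
lemma parDeg_eq {E : X.Modules} (𝓔 : ParSh.Str E) {r : ℕ} (hE : FlatMod.IsFinLocFreeOfRank r E)
    (hb : IsBot k I E (𝓔.bot : X.Modules)) :
    𝓔.parDeg k X r = 𝓔.parSum (chi k) -
      (r : ℝ) * (dg k (ClSub.idealMod I) : ℝ) - (r : ℝ) * chi k (Coh.structureModule X) := by
  obtain ⟨-, -, er, ed⟩ := bundle (k := k) hE
  have h : ((Curv2.euler k X (𝓔.bot : X.Modules) : ℤ) : ℝ) =
      ((Curv2.euler k X E + (gr k E : ℤ) * dg k (ClSub.idealMod I) : ℤ) : ℝ) := by rw [hb.2.2]
  rw [er, euler_eq (k := k) E, er] at h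
  push_cast at h
  show (Curv2.deg k X E r : ℝ) + 𝓔.parWt k X = chi k (𝓔.bot : X.Modules) + 𝓔.parWt k X - _ - _
  rw [ed, show chi k (𝓔.bot : X.Modules) = ((Curv2.euler k X (𝓔.bot : X.Modules) : ℤ) : ℝ) from rfl, h]
  ring

/-- From the image of a parabolic morphism to a subbundle containing it. -/
theorem parDeg_le {E F V V' W : X.Modules} {r s r'' t : ℕ} (hE : FlatMod.IsFinLocFreeOfRank r E)
    (hF : FlatMod.IsFinLocFreeOfRank s F) (hW : FlatMod.IsFinLocFreeOfRank t W)
    (𝓔 : ParSh.Str E) (h𝓔 : 𝓔.Along I) (𝓕 : ParSh.Str F) (h𝓕 : 𝓕.Along I) {φ : E ⟶ F}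
    (hφ : ParSh.IsParHom 𝓔 𝓕 φ) (q : E ⟶ V) [Epi q] (u : V ⟶ V') [Mono u] (ι : V' ⟶ F) [Mono ι]
    (π : F ⟶ W) [Epi π] (w : ι ≫ π = 0) (hS : (ShortComplex.mk ι π w).ShortExact)
    (hfac : q ≫ u ≫ ι = φ)
    (hV : FlatMod.IsFinLocFreeOfRank r'' V) (hV' : FlatMod.IsFinLocFreeOfRank r'' V') :
    (𝓔.coinduced q).parDeg k X r'' ≤ (𝓕.induced ι).parDeg k X r'' := by
  have h1 : IsBot k I V ((𝓔.coinduced q).bot : X.Modules) := by
    show IsBot k I V ((imageSubobject (𝓔.bot.arrow ≫ q) : Subobject V) : X.Modules)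
    rw [h𝓔, image_twist I q]
    exact twist_facts hI hV
  have h2 : IsBot k I V' ((𝓕.induced ι).bot : X.Modules) := by
    show IsBot k I V' (((Subobject.pullback ι).obj 𝓕.bot : Subobject V') : X.Modules)
    rw [h𝓕]
    exact pullback_twist hI ι π w hS hF hV' hW
  rw [parDeg_eq _ hV h1, parDeg_eq _ hV' h2]
  gcongr
  refine Integral.parSum_le _ _ _ _ fun a ha ha' => ?_
  obtain ⟨m, hm, -⟩ := Exact.exists_mono_at 𝓔 𝓕 hφ q ι u hfac a ha ha'
  simp only [chi]
  exact_mod_cast mid_le (Subobject.ofLE _ _ ((𝓔.coinduced q).bot_le_at a)) m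
    ((𝓕.induced ι).at a).arrow h1.1 (bundle (k := k) hV').1
    (h1.2.1.trans ((bundle (k := k) hV).2.2.1.trans (bundle (k := k) hV').2.2.1.symm))

/-- Additivity of the parabolic degree. -/
theorem parDeg_add {F E G : X.Modules} (i : F ⟶ E) (p : E ⟶ G) [Epi p] (w : i ≫ p = 0)
    (hS : (ShortComplex.mk i p w).ShortExact) (𝓔 : ParSh.Str E) (h𝓔 : 𝓔.Along I) {r s t : ℕ}
    (hE : FlatMod.IsFinLocFreeOfRank r E) (hF : FlatMod.IsFinLocFreeOfRank s F)
    (hG : FlatMod.IsFinLocFreeOfRank t G) :
    (𝓔.induced i).parDeg k X s + (𝓔.coinduced p).parDeg k X t = 𝓔.parDeg k X r := by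
  have h0 : IsBot k I E (𝓔.bot : X.Modules) := h𝓔 ▸ twist_facts hI hE
  have h1 : IsBot k I F ((𝓔.induced i).bot : X.Modules) := by
    show IsBot k I F (((Subobject.pullback i).obj 𝓔.bot : Subobject F) : X.Modules)
    rw [h𝓔]
    exact pullback_twist hI i p w hS hE hF hG
  have h2 : IsBot k I G ((𝓔.coinduced p).bot : X.Modules) := by
    show IsBot k I G ((imageSubobject (𝓔.bot.arrow ≫ p) : Subobject G) : X.Modules)
    rw [h𝓔, image_twist I p]
    exact twist_facts hI hG
  have hadd := Exact.parSum_add 𝓔 i p w hS (chi k) fun j => by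
    obtain ⟨i', p', w', -, -, hT⟩ := Exact.piece_shortExact hS (𝓔.pieceX j)
    dsimp only at i' p' hT
    have hI' := Exact.induced_pieceX 𝓔 i j
    have hQ' := Exact.coinduced_pieceX 𝓔 p j
    obtain ⟨g1, -, -⟩ := mid (k := k) (Subobject.ofLE _ _ ((𝓔.induced i).bot_le_pieceX j))
      ((𝓔.induced i).pieceX j).arrow h1.1 (bundle (k := k) hF).1 h1.2.1
    obtain ⟨g2, -, -⟩ := mid (k := k) (Subobject.ofLE _ _ ((𝓔.coinduced p).bot_le_pieceX j))
      ((𝓔.coinduced p).pieceX j).arrow h2.1 (bundle (k := k) hG).1 h2.2.1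
    obtain ⟨g0, -, -⟩ := mid (k := k) (Subobject.ofLE _ _ (𝓔.bot_le_pieceX j))
      (𝓔.pieceX j).arrow h0.1 (bundle (k := k) hE).1 h0.2.1
    have e := Curves.Euler.euler_add hT (g1.of_iso (Subobject.isoOfEq _ _ hI')) g0
      (g2.of_iso (Subobject.isoOfEq _ _ hQ'))
    dsimp only at e
    simp only [chi]
    exact_mod_cast e
  rw [parDeg_eq _ hE h0, parDeg_eq _ hF h1, parDeg_eq _ hG h2, ← hadd]
  have f1 := gr_add k hS (bundle (k := k) hE).1
  dsimp only at f1
  rw [(bundle (k := k) hE).2.2.1, (bundle (k := k) hF).2.2.1, (bundle (k := k) hG).2.2.1] at f1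
  rw [show (r : ℝ) = s + t by exact_mod_cast f1]
  ring

end Groth.Agent.Lib.ParBun.Curve
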