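import Groth.Agent.Lib.ParBun.Integral
import Mathlib.CategoryTheory.Subobject.Limits
import Mathlib.CategoryTheory.Abelian.Exact
import Mathlib.CategoryTheory.Abelian.Images

/-!
# Induced and coinduced filtered structures in an abelian category

Along a short exact sequence the induced structure on the sub and the coinduced one on the quotient
split every piece into a short exact sequence.
-/

set_option autoImplicit false
universe v u

open CategoryTheory CategoryTheory.Limits

namespace Groth.Agent.Lib.ParBun.Exact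

variable {C : Type u} [Category.{v} C] [Abelian C]

/-- A subobject of the middle of a short exact sequence: its trace on the sub and its image. -/
theorem piece_shortExact {S : ShortComplex C} (hS : S.ShortExact) (P : Subobject S.X₂) :
    ∃ (i : (((Subobject.pullback S.f).obj P : Subobject S.X₁) : C) ⟶ (P : C))
      (p : (P : C) ⟶ (imageSubobject (P.arrow ≫ S.g) : C)) (w : i ≫ p = 0),
      i ≫ P.arrow = ((Subobject.pullback S.f).obj P).arrow ≫ S.f ∧
      p ≫ (imageSubobject (P.arrow ≫ S.g)).arrow = P.arrow ≫ S.g ∧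
      (ShortComplex.mk i p w).ShortExact := by
  have := hS.mono_f
  have hpb := Subobject.isPullback S.f P
  let i := Subobject.pullbackπ S.f P
  let p := factorThruImageSubobject (P.arrow ≫ S.g)
  have hi : i ≫ P.arrow = ((Subobject.pullback S.f).obj P).arrow ≫ S.f := hpb.w
  have hp : p ≫ (imageSubobject (P.arrow ≫ S.g)).arrow = P.arrow ≫ S.g :=
    imageSubobject_arrow_comp _
  have w : i ≫ p = 0 := by
    rw [← cancel_mono (imageSubobject (P.arrow ≫ S.g)).arrow, Category.assoc, hp, zero_comp,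
      reassoc_of% hi, S.zero, comp_zero]
  refine ⟨i, p, w, hi, hp, ?_⟩
  have : Mono i := by
    have : Mono (i ≫ P.arrow) := hi ▸ mono_comp _ _
    exact mono_of_mono i P.arrow
  have hlift : ∀ {W : C} (t : W ⟶ (P : C)), t ≫ p = 0 → { l : W ⟶ _ // l ≫ i = t } := fun {W} t ht => by
    have h0 : (t ≫ P.arrow) ≫ S.g = 0 := by
      rw [Category.assoc, ← hp, reassoc_of% ht, zero_comp]
    let s := hS.fIsKernel.lift (KernelFork.ofι (t ≫ P.arrow) h0)
    have hs : s ≫ S.f = t ≫ P.arrow := hS.fIsKernel.fac _ WalkingParallelPair.zero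
    exact ⟨hpb.lift t s hs.symm, hpb.lift_fst _ _ _⟩
  exact { exact := ShortComplex.exact_of_f_is_kernel _ (KernelFork.IsLimit.ofι' _ _ hlift)
          epi_g := inferInstanceAs (Epi (factorThruImageSubobject (P.arrow ≫ S.g))) }

lemma induced_pieceX {E F : C} (𝓔 : ParSh.Str E) (i : F ⟶ E) (j : Fin (𝓔.l + 2)) :
    (𝓔.induced i).pieceX j = (Subobject.pullback i).obj (𝓔.pieceX j) := by
  induction j using Fin.lastCases with
  | last => simp only [ParSh.Str.pieceX_last]; exact ParSh.Str.pieceX_last (𝓔.induced i)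
  | cast j => simp only [ParSh.Str.pieceX_castSucc]; exact ParSh.Str.pieceX_castSucc (𝓔.induced i) j

lemma coinduced_pieceX {E G : C} (𝓔 : ParSh.Str E) (p : E ⟶ G) [Epi p] (j : Fin (𝓔.l + 2)) :
    (𝓔.coinduced p).pieceX j = imageSubobject ((𝓔.pieceX j).arrow ≫ p) := by
  induction j using Fin.lastCases with
  | last => rw [ParSh.Str.pieceX_last]; exact ParSh.Str.pieceX_last (𝓔.coinduced p)
  | cast j => rw [ParSh.Str.pieceX_castSucc]; exact ParSh.Str.pieceX_castSucc (𝓔.coinduced p) j

/-- The weighted sum of an additive invariant is additive on parabolic extensions. -/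
theorem parSum_add {E : C} (𝓔 : ParSh.Str E) {F G : C} (i : F ⟶ E) (p : E ⟶ G) [Epi p]
    (w : i ≫ p = 0) (hS : (ShortComplex.mk i p w).ShortExact) (f : C → ℝ)
    (hf : ∀ j : Fin (𝓔.l + 2), f (𝓔.pieceX j : C) =
      f ((Subobject.pullback i).obj (𝓔.pieceX j) : C) +
        f (imageSubobject ((𝓔.pieceX j).arrow ≫ p) : C)) :
    (𝓔.induced i).parSum f + (𝓔.coinduced p).parSum f = 𝓔.parSum f := by
  have hI := induced_pieceX 𝓔 i
  have hQ := coinduced_pieceX 𝓔 p
  have hb := hf (Fin.last _)
  rw [ParSh.Str.pieceX_last] at hb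
  have hp : ∀ j : Fin (𝓔.l + 1), f (𝓔.piece j : C) =
      f ((Subobject.pullback i).obj (𝓔.piece j) : C) +
        f (imageSubobject ((𝓔.piece j).arrow ≫ p) : C) := fun j => by
    have := hf j.castSucc
    rwa [ParSh.Str.pieceX_castSucc] at this
  show (f ((Subobject.pullback i).obj 𝓔.bot : C) + ∑ j : Fin (𝓔.l + 1),
        𝓔.wt j * (f ((Subobject.pullback i).obj (𝓔.piece j) : C) - f ((𝓔.induced i).pieceX j.succ : C))) +
      (f (imageSubobject (𝓔.bot.arrow ≫ p) : C) + ∑ j : Fin (𝓔.l + 1),
        𝓔.wt j * (f (imageSubobject ((𝓔.piece j).arrow ≫ p) : C) -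
          f ((𝓔.coinduced p).pieceX j.succ : C))) = _
  rw [ParSh.Str.parSum, hb, add_add_add_comm, ← Finset.sum_add_distrib]
  congr 1
  refine Finset.sum_congr rfl fun j _ => ?_
  rw [hI, hQ, hp j, hf j.succ]
  ring

/-- Morphisms of structures send the filtration into the filtration, after forming images. -/
theorem exists_mono_at {E F G H : C} (𝓔 : ParSh.Str E) (𝓕 : ParSh.Str F) {φ : E ⟶ F}
    (hφ : ParSh.IsParHom 𝓔 𝓕 φ) (q : E ⟶ G) [Epi q] (ι : H ⟶ F) [Mono ι] (u : G ⟶ H) [Mono u]
    (hfac : q ≫ u ≫ ι = φ) (a : ℝ) (ha : 0 ≤ a) (ha' : a ≤ 1) :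
    ∃ m : (((𝓔.coinduced q).at a : Subobject G) : C) ⟶ (((𝓕.induced ι).at a : Subobject H) : C),
      Mono m ∧ m ≫ ((𝓕.induced ι).at a).arrow = ((𝓔.coinduced q).at a).arrow ≫ u := by
  obtain ⟨j, hj, hji⟩ := Integral.exists_at 𝓔 a
  obtain ⟨j', hj', hji'⟩ := Integral.exists_at (𝓔.coinduced q) a
  obtain ⟨k, hk, hki⟩ := Integral.exists_at 𝓕 a
  obtain ⟨k', hk', hki'⟩ := Integral.exists_at (𝓕.induced ι) a
  have ej : j' = j := by
    refine le_antisymm ?_ ?_
    · induction j using Fin.lastCases with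
      | last => exact Fin.le_last _
      | cast x => exact (hji' x).mp ((hji x).mpr le_rfl)
    · induction j' using Fin.lastCases with
      | last => exact Fin.le_last _
      | cast x => exact (hji x).mp ((hji' x).mpr le_rfl)
  have ek : k' = k := by
    refine le_antisymm ?_ ?_
    · induction k using Fin.lastCases with
      | last => exact Fin.le_last _
      | cast x => exact (hki' x).mp ((hki x).mpr le_rfl)
    · induction k' using Fin.lastCases with
      | last => exact Fin.le_last _
      | cast x => exact (hki x).mp ((hki' x).mpr le_rfl)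
  subst ej ek
  have hQ := coinduced_pieceX 𝓔 q j'
  have hI := induced_pieceX 𝓕 ι k'
  rw [hj', hk', hQ, hI]
  have hfac' : ((Subobject.pullback ι).obj (𝓕.pieceX k')).Factors
      ((imageSubobject ((𝓔.pieceX j').arrow ≫ q)).arrow ≫ u) := by
    have h1 : (𝓕.pieceX k').Factors ((𝓔.pieceX j').arrow ≫ φ) := by
      have := hφ a ha ha'
      rwa [hj, hk] at this
    let g := (𝓕.pieceX k').factorThru _ h1
    have hg : g ≫ (𝓕.pieceX k').arrow = (𝓔.pieceX j').arrow ≫ φ := Subobject.factorThru_arrow _ _ _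
    let l := (Subobject.isPullback ι (𝓕.pieceX k')).lift g ((𝓔.pieceX j').arrow ≫ q ≫ u) (by
      rw [hg, ← hfac]; simp only [Category.assoc])
    have hl : l ≫ ((Subobject.pullback ι).obj (𝓕.pieceX k')).arrow = (𝓔.pieceX j').arrow ≫ q ≫ u :=
      (Subobject.isPullback ι (𝓕.pieceX k')).lift_snd _ _ _
    let p := factorThruImageSubobject ((𝓔.pieceX j').arrow ≫ q)
    have hp : p ≫ (imageSubobject ((𝓔.pieceX j').arrow ≫ q)).arrow = (𝓔.pieceX j').arrow ≫ q :=
      imageSubobject_arrow_comp _
    have hz : kernel.ι p ≫ l = 0 := by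
      rw [← cancel_mono ((Subobject.pullback ι).obj (𝓕.pieceX k')).arrow, Category.assoc, hl,
        zero_comp, ← reassoc_of% hp, kernel.condition_assoc, zero_comp]
    have e : Abelian.epiDesc p l hz ≫ ((Subobject.pullback ι).obj (𝓕.pieceX k')).arrow =
        (imageSubobject ((𝓔.pieceX j').arrow ≫ q)).arrow ≫ u := by
      rw [← cancel_epi p, Abelian.comp_epiDesc_assoc, hl, reassoc_of% hp]
    rw [← e]
    exact Subobject.factors_comp_arrow _
  exact ⟨Subobject.factorThru _ _ hfac',
    mono_of_mono_fac (Subobject.factorThru_arrow _ _ hfac'), Subobject.factorThru_arrow _ _ hfac'⟩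

end Groth.Agent.Lib.ParBun.Exact
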