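import Groth.Prelude.Def_ParBun
import Mathlib.MeasureTheory.Integral.IntervalIntegral.Basic
import Mathlib.MeasureTheory.Constructions.BorelSpace.Order

/-!
# Weighted sums of filtered structures as integrals

`𝓔.parSum f` is the integral over `[0, 1]` of the step function `a ↦ f (𝓔.at a)`; it is monotone in
that function, also between structures with different weights.
-/

set_option autoImplicit false
universe v u

open CategoryTheory CategoryTheory.Limits MeasureTheory

namespace Groth.Agent.Lib.ParBun.Integral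

variable {C : Type u} [Category.{v} C] [HasImages C] [HasBinaryCoproducts C] [HasInitial C]
  [InitialMonoClass C] {E : C} (𝓔 : ParSh.Str E)

/-- `F_a` is one of the extended pieces, the first whose weight is at least `a`. -/
theorem exists_at (a : ℝ) : ∃ j : Fin (𝓔.l + 2), 𝓔.at a = 𝓔.pieceX j ∧
    ∀ i : Fin (𝓔.l + 1), a ≤ 𝓔.wt i ↔ j ≤ i.castSucc := by
  classical
  by_cases h : ∃ i, a ≤ 𝓔.wt i
  · obtain ⟨i₀, hi₀, hmin⟩ :=
      (Finset.univ.filter fun i => a ≤ 𝓔.wt i).exists_min_image id
        ⟨h.choose, Finset.mem_filter.mpr ⟨Finset.mem_univ _, h.choose_spec⟩⟩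
    rw [Finset.mem_filter] at hi₀
    refine ⟨i₀.castSucc, ?_, fun i => ⟨fun hi => ?_, fun hi => ?_⟩⟩
    · rw [ParSh.Str.pieceX_castSucc]
      refine 𝓔.at_eq_piece i₀ hi₀.2 fun j hj => ?_
      by_contra! hle
      exact absurd (hmin j (Finset.mem_filter.mpr ⟨Finset.mem_univ _, hle⟩)) (not_le.mpr hj)
    · exact Fin.castSucc_le_castSucc_iff.mpr (hmin i (Finset.mem_filter.mpr ⟨Finset.mem_univ _, hi⟩))
    · exact hi₀.2.trans (𝓔.wt_strictMono.monotone (Fin.castSucc_le_castSucc_iff.mp hi))
  · push Not at h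
    refine ⟨Fin.last _, by rw [ParSh.Str.pieceX_last]; exact 𝓔.at_eq_bot h, fun i =>
      ⟨fun hi => absurd hi (not_le.mpr (h i)), fun hi => absurd hi (not_le.mpr (Fin.castSucc_lt_last i))⟩⟩

omit [HasImages C] [HasBinaryCoproducts C] [HasInitial C] [InitialMonoClass C] in
lemma sum_telescope {n : ℕ} (φ : Fin (n + 1) → ℝ) (j : Fin (n + 1)) :
    ∑ i : Fin n, (if j ≤ i.castSucc then φ i.castSucc - φ i.succ else 0) = φ j - φ (Fin.last n) := by
  induction j using Fin.reverseInduction with
  | last => simp [Fin.castSucc_lt_last, not_le]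
  | cast j ih =>
    have h : ∀ i : Fin n, (if j.castSucc ≤ i.castSucc then φ i.castSucc - φ i.succ else 0) =
        (if j.succ ≤ i.castSucc then φ i.castSucc - φ i.succ else 0) +
          (if i = j then φ j.castSucc - φ j.succ else 0) := by
      intro i
      rcases eq_or_ne i j with rfl | hne
      · simp [not_le, Fin.castSucc_lt_succ]
      · rw [if_neg hne, add_zero]
        refine if_congr ?_ rfl rfl
        simp only [Fin.le_def, Fin.val_castSucc, Fin.val_succ]
        have := Fin.val_ne_of_ne hne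
        omega
    rw [Finset.sum_congr rfl fun i _ => h i, Finset.sum_add_distrib, ih, Finset.sum_ite_eq']
    simp

/-- The step function of a real invariant of the pieces. -/
noncomputable def step (f : C → ℝ) (a : ℝ) : ℝ := f ((𝓔.at a : Subobject E) : C)

lemma step_eq (f : C → ℝ) (a : ℝ) :
    step 𝓔 f a = f (𝓔.bot : C) + ∑ i : Fin (𝓔.l + 1),
      (Set.Iic (𝓔.wt i)).indicator
        (fun _ => f (𝓔.piece i : C) - f (𝓔.pieceX i.succ : C)) a := by
  obtain ⟨j, hj, hiff⟩ := exists_at 𝓔 a
  have := sum_telescope (fun x => f (𝓔.pieceX x : C)) j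
  rw [ParSh.Str.pieceX_last] at this
  rw [step, hj, ← sub_eq_iff_eq_add', ← this]
  refine Finset.sum_congr rfl fun i _ => ?_
  rw [Set.indicator_apply, ParSh.Str.pieceX_castSucc]
  simp only [Set.mem_Iic, hiff i]

lemma intervalIntegrable_step (f : C → ℝ) : IntervalIntegrable (step 𝓔 f) volume 0 1 := by
  rw [show step 𝓔 f = fun a => f (𝓔.bot : C) + ∑ i : Fin (𝓔.l + 1),
      (Set.Iic (𝓔.wt i)).indicator
        (fun _ => f (𝓔.piece i : C) - f (𝓔.pieceX i.succ : C)) a from funext (step_eq 𝓔 f)]
  refine intervalIntegrable_const.add ?_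
  have h : ∀ i : Fin (𝓔.l + 1), IntervalIntegrable ((Set.Iic (𝓔.wt i)).indicator
      (fun _ => f (𝓔.piece i : C) - f (𝓔.pieceX i.succ : C))) volume 0 1 := fun i =>
    ⟨(intervalIntegrable_const (μ := volume)).1.indicator measurableSet_Iic,
      (intervalIntegrable_const (μ := volume)).2.indicator measurableSet_Iic⟩
  simpa [Finset.sum_fn] using IntervalIntegrable.sum Finset.univ (fun i _ => h i)

/-- The weighted combination is the integral of the step function. -/
theorem parSum_eq (f : C → ℝ) : 𝓔.parSum f = ∫ a in (0 : ℝ)..1, step 𝓔 f a := by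
  rw [intervalIntegral.integral_congr fun a _ => step_eq 𝓔 f a]
  have h : ∀ i : Fin (𝓔.l + 1), IntervalIntegrable ((Set.Iic (𝓔.wt i)).indicator
      (fun _ => f (𝓔.piece i : C) - f (𝓔.pieceX i.succ : C))) volume 0 1 := fun i =>
    ⟨(intervalIntegrable_const (μ := volume)).1.indicator measurableSet_Iic,
      (intervalIntegrable_const (μ := volume)).2.indicator measurableSet_Iic⟩
  have h' : IntervalIntegrable (fun a => ∑ i : Fin (𝓔.l + 1), (Set.Iic (𝓔.wt i)).indicator
      (fun _ => f (𝓔.piece i : C) - f (𝓔.pieceX i.succ : C)) a) volume 0 1 := by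
    simpa [Finset.sum_fn] using IntervalIntegrable.sum Finset.univ (fun i _ => h i)
  rw [intervalIntegral.integral_add intervalIntegrable_const h',
    intervalIntegral.integral_finsetSum fun i _ => h i, intervalIntegral.integral_const]
  rw [sub_zero, one_smul, ParSh.Str.parSum]
  congr 1
  refine Finset.sum_congr rfl fun i _ => ?_
  have h0 : 0 ≤ 𝓔.wt i := 𝓔.wt_nonneg.trans (𝓔.wt_strictMono.monotone (Fin.zero_le i))
  have h1 : 𝓔.wt i ≤ 1 := (𝓔.wt_strictMono.monotone (Fin.le_last i)).trans 𝓔.wt_lt_one.le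
  rw [← Set.Iic_def, intervalIntegral.integral_indicator ⟨h0, h1⟩, intervalIntegral.integral_const]
  simp [smul_eq_mul]

/-- Monotonicity of the weighted combination, for structures with arbitrary weights. -/
theorem parSum_le {F : C} (𝓕 : ParSh.Str F) (f g : C → ℝ)
    (h : ∀ a : ℝ, 0 ≤ a → a ≤ 1 → f ((𝓔.at a : Subobject E) : C) ≤ g ((𝓕.at a : Subobject F) : C)) :
    𝓔.parSum f ≤ 𝓕.parSum g := by
  rw [parSum_eq 𝓔 f, parSum_eq 𝓕 g]
  exact intervalIntegral.integral_mono_on zero_le_one (intervalIntegrable_step 𝓔 f)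
    (intervalIntegrable_step 𝓕 g) fun a ha => h a ha.1 ha.2

end Groth.Agent.Lib.ParBun.Integral
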