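import Groth.Agent.Lib.ParBun.Curve
import Groth.Agent.Lib.CurveBundle.Saturation

/-!
# Stable parabolic bundles have no nilpotent parabolic endomorphisms
-/

set_option autoImplicit false
universe v u

open CategoryTheory Limits

namespace Groth.Agent.Lib.ParBun.Stable

section Generic

variable {C : Type u} [Category.{v} C] [Abelian C]

lemma parHom_comp {E F G : C} {𝓔 : ParSh.Str E} {𝓕 : ParSh.Str F} {𝓖 : ParSh.Str G} {φ : E ⟶ F}
    {ψ : F ⟶ G} (hφ : ParSh.IsParHom 𝓔 𝓕 φ) (hψ : ParSh.IsParHom 𝓕 𝓖 ψ) :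
    ParSh.IsParHom 𝓔 𝓖 (φ ≫ ψ) := fun a ha ha' => by
  have h1 := (𝓕.at a).factorThru_arrow _ (hφ a ha ha')
  have h2 := (𝓖.at a).factorThru_arrow _ (hψ a ha ha')
  rw [← Category.assoc, ← h1, Category.assoc, ← h2, ← Category.assoc]
  exact Subobject.factors_comp_arrow _

/-- An induced structure has the same index at every weight. -/
lemma at_induced {E F : C} (𝓔 : ParSh.Str E) (i : F ⟶ E) (a : ℝ) :
    (𝓔.induced i).at a = (Subobject.pullback i).obj (𝓔.at a) := by
  obtain ⟨j, hj, hji⟩ := Integral.exists_at 𝓔 a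
  obtain ⟨j', hj', hji'⟩ := Integral.exists_at (𝓔.induced i) a
  have ej : j' = j := by
    refine le_antisymm ?_ ?_
    · induction j using Fin.lastCases with
      | last => exact Fin.le_last _
      | cast x => exact (hji' x).mp ((hji x).mpr le_rfl)
    · induction j' using Fin.lastCases with
      | last => exact Fin.le_last _
      | cast x => exact (hji x).mp ((hji' x).mpr le_rfl)
  subst ej
  rw [hj', hj]
  exact Exact.induced_pieceX 𝓔 i j'

/-- A coinduced structure has the same index at every weight. -/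
lemma at_coinduced {E G : C} (𝓔 : ParSh.Str E) (p : E ⟶ G) [Epi p] (a : ℝ) :
    (𝓔.coinduced p).at a = imageSubobject ((𝓔.at a).arrow ≫ p) := by
  obtain ⟨j, hj, hji⟩ := Integral.exists_at 𝓔 a
  obtain ⟨j', hj', hji'⟩ := Integral.exists_at (𝓔.coinduced p) a
  have ej : j' = j := by
    refine le_antisymm ?_ ?_
    · induction j using Fin.lastCases with
      | last => exact Fin.le_last _
      | cast x => exact (hji' x).mp ((hji x).mpr le_rfl)
    · induction j' using Fin.lastCases with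
      | last => exact Fin.le_last _
      | cast x => exact (hji x).mp ((hji' x).mpr le_rfl)
  subst ej
  rw [hj', hj]
  exact Exact.coinduced_pieceX 𝓔 p j'

lemma parHom_coinduced {E G : C} (𝓔 : ParSh.Str E) (p : E ⟶ G) [Epi p] :
    ParSh.IsParHom 𝓔 (𝓔.coinduced p) p := fun a _ _ => by
  rw [at_coinduced]
  conv => arg 2; rw [← imageSubobject_arrow_comp ((𝓔.at a).arrow ≫ p)]
  exact Subobject.factors_comp_arrow _

lemma parHom_induced {E F : C} (𝓔 : ParSh.Str E) (i : F ⟶ E) :
    ParSh.IsParHom (𝓔.induced i) 𝓔 i := fun a _ _ => by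
  rw [at_induced, ← (Subobject.isPullback i (𝓔.at a)).w]
  exact Subobject.factors_comp_arrow _

end Generic

section Curve

open AlgebraicGeometry Groth.Agent.Lib CurveBundle.Degree CurveBundle.Slope

variable {X : Scheme.{u}} {k : Type u} [Field k] [X.Over (Spec (CommRingCat.of k))]
  [hC : CurveCtx k X] {I : X.IdealSheafData}

include hC

/-- A parabolic endomorphism of a stable parabolic bundle with zero square vanishes. -/
theorem sq_eq_zero (hI : FGA.IsEffCartier I) {F : X.Modules} {r : ℕ}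
    (hF : FlatMod.IsFinLocFreeOfRank r F) (𝓕 : ParSh.Str F) (h𝓕 : 𝓕.Along I)
    (hst : ParSh.IsParStable k X 𝓕 r) (θ : F ⟶ F) (hθ : ParSh.IsParHom 𝓕 𝓕 θ) (h2 : θ ≫ θ = 0) :
    θ = 0 := by
  let _ := hC.integral
  have := hC.locNoeth
  by_contra h0
  obtain ⟨hFc, hFT, er, -⟩ := bundle (k := k) hF
  obtain ⟨V, q, j, hq, hj, hqj, hV, hK, hg, -⟩ := exists_image k θ hFc hFc
  obtain ⟨hKb, -⟩ := sub_bundle (k := k) (kernel.ι θ) hK hFT
  obtain ⟨hVb, -⟩ := sub_bundle (k := k) j hV hFT
  have hi0 : 0 < gr k V := Nat.pos_of_ne_zero fun h => h0 (eq_zero_of_image k q j hqj hV hFT h)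
  have hK0 : 0 < gr k (kernel θ) := Nat.pos_of_ne_zero fun h => by
    have : Mono θ :=
      Preadditive.mono_of_kernel_zero ((sub_zero_rank (k := k) (kernel.ι θ) hK hFT h).1.eq_of_src _ _)
    exact h0 (by rw [← cancel_mono θ, h2, zero_comp])
  obtain ⟨V', l, u, hl, hu, hul, hV', hgr, hT, hQ⟩ :=
    CurveBundle.Saturation.exists_saturation j hV hFc
  obtain ⟨hV'b, -⟩ := sub_bundle (k := k) l hV' hFT
  have hgr' : gr k V' = gr k V := hgr
  rw [hgr'] at hV'b
  have hS₁ : (ShortComplex.mk l (cokernel.π l) (cokernel.condition l)).ShortExact :=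
    { exact := ShortComplex.exact_cokernel l }
  have hle := Curve.parDeg_le (k := k) hI hF hF (rank_gr k hQ hT) 𝓕 h𝓕 𝓕 h𝓕 hθ q u l (cokernel.π l)
    (cokernel.condition l) hS₁ (by rw [hul]; exact hqj) hVb hV'b
  have w : kernel.ι θ ≫ q = 0 := by
    rw [← cancel_mono j, Category.assoc, hqj, kernel.condition, zero_comp]
  have hS₂ : (ShortComplex.mk (kernel.ι θ) q w).ShortExact :=
    { exact := ShortComplex.exact_of_f_is_kernel _
        (KernelFork.IsLimit.ofι' _ _ fun {W} t ht => ⟨kernel.lift θ t (by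
          rw [← hqj, reassoc_of% ht, zero_comp]), kernel.lift_ι _ _ _⟩) }
  have hadd := Curve.parDeg_add (k := k) hI (kernel.ι θ) q w hS₂ 𝓕 h𝓕 hF hKb hVb
  have s1 := hst V' _ l hl hi0 (by omega) hV'b
  have s2 := hst _ _ (kernel.ι θ) inferInstance hK0 (by omega) hKb
  have hr : (r : ℝ) = gr k (kernel θ) + gr k V := by exact_mod_cast er ▸ hg
  have hr0 : (0 : ℝ) < r := by
    have : (0 : ℝ) < gr k V := by exact_mod_cast hi0
    have : (0 : ℝ) ≤ gr k (kernel θ) := Nat.cast_nonneg _
    linarith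
  have e := congrArg (· * (r : ℝ)) hadd
  simp only [add_mul] at e
  have := mul_le_mul_of_nonneg_right hle hr0.le
  have e' : 𝓕.parDeg k X r * (r : ℝ) =
      𝓕.parDeg k X r * gr k (kernel θ) + 𝓕.parDeg k X r * gr k V := by rw [← mul_add, ← hr]
  linarith

end Curve

end Groth.Agent.Lib.ParBun.Stable
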